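import Groth.Agent.H24Val.TruncFP
import Groth.Agent.H05EGA4.Regular
import Groth.Agent.H05EGA4.Regular2
import Groth.Agent.H05EGA4.HullCompletion
import Groth.Agent.H25Div.LocalSpec
import Groth.Prelude.Def_Curv2
import Mathlib

/-!
# Local rings of the base change to the completion, at points over the closed point
-/

set_option autoImplicit false
set_option backward.isDefEq.respectTransparency.types false

universe u

open CategoryTheory Limits AlgebraicGeometry TopologicalSpace IsLocalRing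
open scoped TensorProduct

namespace Groth.Agent.H28Cpl

/-- A local map inducing isomorphisms of all the truncations. -/
def TruncBij {R S : Type u} [CommRing R] [IsLocalRing R] [CommRing S] [IsLocalRing S] (ψ : R →+* S) : Prop :=
  (maximalIdeal R).map ψ = maximalIdeal S ∧ ∀ n : ℕ,
    (∀ c, ∃ b, c - ψ b ∈ maximalIdeal S ^ n) ∧ ∀ b, ψ b ∈ maximalIdeal S ^ n → b ∈ maximalIdeal R ^ n

theorem TruncBij.equiv_comp {R R' S S' : Type u} [CommRing R] [IsLocalRing R] [CommRing S] [IsLocalRing S]
    [CommRing R'] [IsLocalRing R'] [CommRing S'] [IsLocalRing S'] {ψ : R →+* S} (h : TruncBij ψ)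
    (e₁ : R ≃+* R') (e₂ : S ≃+* S') (ψ' : R' →+* S') (hc : ∀ x, ψ' (e₁ x) = e₂ (ψ x)) : TruncBij ψ' := by
  have hR : (maximalIdeal R).map e₁.toRingHom = maximalIdeal R' := IsLocalRing.map_ringEquiv_maximalIdeal e₁
  have hS : (maximalIdeal S).map e₂.toRingHom = maximalIdeal S' := IsLocalRing.map_ringEquiv_maximalIdeal e₂
  have hψ : ψ'.comp e₁.toRingHom = e₂.toRingHom.comp ψ := RingHom.ext hc
  refine ⟨by rw [← hR, Ideal.map_map, hψ, ← Ideal.map_map, h.1, hS], fun n => ⟨fun c => ?_, fun b hb => ?_⟩⟩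
  · obtain ⟨b, hb⟩ := (h.2 n).1 (e₂.symm c)
    refine ⟨e₁ b, ?_⟩
    rw [hc, ← hS, ← Ideal.map_pow]
    have := Ideal.mem_map_of_mem e₂.toRingHom hb
    rwa [map_sub, show e₂.toRingHom (e₂.symm c) = c from e₂.apply_symm_apply c] at this
  · obtain ⟨a, rfl⟩ := e₁.surjective b
    rw [hc, ← hS, ← Ideal.map_pow] at hb
    rw [← hR, ← Ideal.map_pow]
    refine Ideal.mem_map_of_mem _ ((h.2 n).2 a ?_)
    obtain ⟨z, hz, hze⟩ := (Ideal.mem_map_iff_of_surjective e₂.toRingHom e₂.surjective).1 hb
    rwa [e₂.injective hze] at hz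

section Algebra

variable {A : Type u} [CommRing A] [IsLocalRing A] (hm : (maximalIdeal A).FG) (B : Type u) [CommRing B] [Algebra A B]

include hm in
theorem exists_sub_mem (n : ℕ) (c : B ⊗[A] Curv2.cpl A) :
    ∃ b : B, c - algebraMap B (B ⊗[A] Curv2.cpl A) b ∈
      (((maximalIdeal A) ^ n).map (algebraMap A B)).map (algebraMap B (B ⊗[A] Curv2.cpl A)) := by
  induction c using TensorProduct.induction_on with
  | zero => exact ⟨0, by rw [map_zero, sub_zero]; exact zero_mem _⟩
  | add x y hx hy =>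
    obtain ⟨b, hb⟩ := hx
    obtain ⟨b', hb'⟩ := hy
    exact ⟨b + b', by rw [map_add, add_sub_add_comm]; exact add_mem hb hb'⟩
  | tmul b α =>
    obtain ⟨a, ha⟩ := Ideal.Quotient.mk_surjective (AdicCompletion.evalₐ (maximalIdeal A) n α)
    refine ⟨b * algebraMap A B a, ?_⟩
    have h1 : α - algebraMap A (Curv2.cpl A) a ∈ ((maximalIdeal A) ^ n).map (algebraMap A (Curv2.cpl A)) := by
      rw [← H24Val.ker_evalₐ hm, RingHom.mem_ker, map_sub, sub_eq_zero, ← ha]
      exact ((AdicCompletion.evalₐ (maximalIdeal A) n).commutes a).symm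
    have h2 := Ideal.mem_map_of_mem
      (Algebra.TensorProduct.includeRight : Curv2.cpl A →ₐ[A] B ⊗[A] Curv2.cpl A).toRingHom h1
    rw [Ideal.map_map, AlgHom.toRingHom_eq_coe, AlgHom.comp_algebraMap] at h2
    rw [Ideal.map_map, ← IsScalarTower.algebraMap_eq]
    have h3 : b ⊗ₜ[A] α - algebraMap B (B ⊗[A] Curv2.cpl A) (b * algebraMap A B a) =
        (b ⊗ₜ[A] (1 : Curv2.cpl A)) * ((1 : B) ⊗ₜ[A] (α - algebraMap A (Curv2.cpl A) a)) := by
      rw [Algebra.TensorProduct.algebraMap_apply, Algebra.algebraMap_self, RingHom.id_apply,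
        Algebra.TensorProduct.tmul_mul_tmul, mul_one, one_mul, TensorProduct.tmul_sub,
        Algebra.algebraMap_eq_smul_one (R := A) (A := Curv2.cpl A), TensorProduct.tmul_smul, TensorProduct.smul_tmul',
        Algebra.smul_def, mul_comm]
    rw [h3]
    exact Ideal.mul_mem_left _ _ h2

theorem mem_of_algebraMap_mem (n : ℕ) (b : B)
    (h : algebraMap B (B ⊗[A] Curv2.cpl A) b ∈
      (((maximalIdeal A) ^ n).map (algebraMap A B)).map (algebraMap B (B ⊗[A] Curv2.cpl A))) :
    b ∈ ((maximalIdeal A) ^ n).map (algebraMap A B) := by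
  let J := ((maximalIdeal A) ^ n).map (algebraMap A B)
  let g : Curv2.cpl A →ₐ[A] B ⧸ J :=
    (Ideal.quotientMapₐ J (Algebra.ofId A B) Ideal.le_comap_map).comp (AdicCompletion.evalₐ (maximalIdeal A) n)
  let r : B ⊗[A] Curv2.cpl A →ₐ[A] B ⧸ J :=
    Algebra.TensorProduct.lift (Ideal.Quotient.mkₐ A J) g fun _ _ => Commute.all _ _
  have hr : ∀ x : B, r (algebraMap B (B ⊗[A] Curv2.cpl A) x) = Ideal.Quotient.mk J x := fun x => by
    rw [Algebra.TensorProduct.algebraMap_apply]
    simp [r]
  have hle : J.map (algebraMap B (B ⊗[A] Curv2.cpl A)) ≤ RingHom.ker r := by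
    rw [Ideal.map_le_iff_le_comap]
    intro x hx
    rw [Ideal.mem_comap, RingHom.mem_ker, hr]
    exact Ideal.Quotient.eq_zero_iff_mem.2 hx
  have := hle h
  rw [RingHom.mem_ker, hr] at this
  exact Ideal.Quotient.eq_zero_iff_mem.1 this

end Algebra

/-- Localisation of a map inducing isomorphisms of truncations. -/
theorem truncBij_localRingHom {B C : Type u} [CommRing B] [CommRing C] (φ : B →+* C) (J : ℕ → Ideal B)
    (hsurj : ∀ n c, ∃ b, c - φ b ∈ (J n).map φ) (hinj : ∀ n b, φ b ∈ (J n).map φ → b ∈ J n)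
    (p : Ideal B) [p.IsPrime] (q : Ideal C) [q.IsPrime] (hpq : p = q.comap φ) (hJ : ∀ n, J n ≤ p ^ n) :
    TruncBij (Localization.localRingHom p q φ hpq) := by
  have hq : q = p.map φ := by
    refine le_antisymm (fun c hc => ?_) (Ideal.map_le_iff_le_comap.2 hpq.le)
    obtain ⟨b, hb⟩ := hsurj 1 c
    have hJq : (J 1).map φ ≤ p.map φ := Ideal.map_mono ((hJ 1).trans (pow_one p).le)
    have hbp : b ∈ p := by
      rw [hpq, Ideal.mem_comap, show φ b = c - (c - φ b) by ring]
      exact sub_mem hc (Ideal.map_le_iff_le_comap.2 hpq.le (hJq hb))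
    rw [show c = φ b + (c - φ b) by ring]
    exact add_mem (Ideal.mem_map_of_mem φ hbp) (hJq hb)
  set ψ := Localization.localRingHom p q φ hpq
  have hmax : (maximalIdeal (Localization.AtPrime p)).map ψ = maximalIdeal (Localization.AtPrime q) := by
    rw [← IsLocalization.AtPrime.map_eq_maximalIdeal p (Localization.AtPrime p),
      ← IsLocalization.AtPrime.map_eq_maximalIdeal q (Localization.AtPrime q), Ideal.map_map]
    rw [congrArg (Ideal.map (algebraMap C (Localization.AtPrime q))) hq, Ideal.map_map]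
    congr 1
    exact RingHom.ext fun x => Localization.localRingHom_to_map p q φ hpq x
  have hpow : ∀ n, maximalIdeal (Localization.AtPrime q) ^ n = (p ^ n).map ((algebraMap C (Localization.AtPrime q)).comp φ) := by
    intro n
    rw [← IsLocalization.AtPrime.map_eq_maximalIdeal q (Localization.AtPrime q), ← Ideal.map_pow,
      congrArg (fun I : Ideal C => Ideal.map (algebraMap C (Localization.AtPrime q)) (I ^ n)) hq, ← Ideal.map_pow,
      Ideal.map_map]
  refine ⟨hmax, fun n => ⟨fun z => ?_, fun z hz => ?_⟩⟩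
  · obtain ⟨c, s, rfl⟩ := IsLocalization.exists_mk'_eq q.primeCompl z
    obtain ⟨b, hb⟩ := hsurj n c
    obtain ⟨t, ht⟩ := hsurj n (s : C)
    have hbn : c - φ b ∈ (p ^ n).map φ := Ideal.map_mono (hJ n) hb
    have htn : (s : C) - φ t ∈ (p ^ n).map φ := Ideal.map_mono (hJ n) ht
    rcases Nat.eq_zero_or_pos n with hn | hn
    · exact ⟨0, by rw [hn, pow_zero, Ideal.one_eq_top]; trivial⟩
    have htp : t ∈ p.primeCompl := fun h => s.2 (by
      rw [show (s : C) = φ t + ((s : C) - φ t) by ring]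
      refine hq.ge ?_
      exact add_mem (Ideal.mem_map_of_mem φ h) (Ideal.map_mono (Ideal.pow_le_self hn.ne') htn))
    refine ⟨IsLocalization.mk' _ b ⟨t, htp⟩, ?_⟩
    rw [Localization.localRingHom_mk', hpow, ← Ideal.map_map, ← IsLocalization.mk'_sub]
    refine IsLocalization.mk'_mem_iff.2 (Ideal.mem_map_of_mem _ ?_)
    show c * φ t - φ b * (s : C) ∈ _
    rw [show c * φ t - φ b * (s : C) = (c - φ b) * φ t - φ b * ((s : C) - φ t) by ring]
    exact sub_mem (Ideal.mul_mem_right _ _ hbn) (Ideal.mul_mem_left _ _ htn)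
  · obtain ⟨b, t, rfl⟩ := IsLocalization.exists_mk'_eq p.primeCompl z
    rw [Localization.localRingHom_mk', hpow, ← Ideal.map_map, IsLocalization.mk'_mem_iff,
      IsLocalization.algebraMap_mem_map_algebraMap_iff q.primeCompl] at hz
    obtain ⟨u, hu, huz⟩ := hz
    obtain ⟨v, hv⟩ := hsurj n u
    rcases Nat.eq_zero_or_pos n with hn | hn
    · rw [hn, pow_zero, Ideal.one_eq_top]; trivial
    have hvn : u - φ v ∈ (p ^ n).map φ := Ideal.map_mono (hJ n) hv
    have hvp : v ∉ p := fun h => hu (by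
      rw [show u = φ v + (u - φ v) by ring]
      refine hq.ge ?_
      exact add_mem (Ideal.mem_map_of_mem φ h) (Ideal.map_mono (Ideal.pow_le_self hn.ne') hvn))
    have hvb : φ (v * b) ∈ (p ^ n).map φ := by
      rw [map_mul, show φ v * φ b = u * φ b - (u - φ v) * φ b by ring]
      exact sub_mem huz (Ideal.mul_mem_right _ _ hvn)
    -- `φ` is injective modulo `p ^ n` as it is so modulo `J n`
    have key : ∀ w, w ∈ (p ^ n).map φ → ∃ w' ∈ p ^ n, w - φ w' ∈ (J n).map φ := by
      intro w hw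
      induction hw using Submodule.span_induction with
      | mem w hw => obtain ⟨w', hw', rfl⟩ := hw; exact ⟨w', hw', by simp⟩
      | zero => exact ⟨0, zero_mem _, by simp⟩
      | add w₁ w₂ _ _ h₁ h₂ =>
        obtain ⟨a₁, ha₁, e₁⟩ := h₁
        obtain ⟨a₂, ha₂, e₂⟩ := h₂
        exact ⟨a₁ + a₂, add_mem ha₁ ha₂, by rw [map_add, add_sub_add_comm]; exact add_mem e₁ e₂⟩
      | smul d w _ hw =>
        obtain ⟨a, ha, e⟩ := hw
        obtain ⟨d', hd'⟩ := hsurj n d
        refine ⟨d' * a, Ideal.mul_mem_left _ _ ha, ?_⟩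
        rw [smul_eq_mul, map_mul, show d * w - φ d' * φ a = d * (w - φ a) + (d - φ d') * φ a by ring]
        exact add_mem (Ideal.mul_mem_left _ _ e) (Ideal.mul_mem_right _ _ hd')
    obtain ⟨w', hw', hw''⟩ := key _ hvb
    rw [← map_sub] at hw''
    have hfin : v * b ∈ p ^ n := by
      rw [← sub_add_cancel (v * b) w']
      exact add_mem (hJ n (hinj n _ hw'')) hw'
    rw [← IsLocalization.AtPrime.map_eq_maximalIdeal p (Localization.AtPrime p), ← Ideal.map_pow,
      IsLocalization.mk'_mem_iff, IsLocalization.algebraMap_mem_map_algebraMap_iff p.primeCompl]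
    exact ⟨v, hvp, hfin⟩

/-- At points over the closed point, the base change to the completion induces isomorphisms of truncations. -/
theorem truncBij_stalkMap {A : Type u} [CommRing A] [IsLocalRing A] (hm : (maximalIdeal A).FG) {X : Scheme.{u}}
    (f : X ⟶ Spec (CommRingCat.of A)) (q : ↥(Curv2.bcCpl A f))
    (hq : f.base ((Curv2.bcCplFst A f).base q) = closedPoint A) :
    TruncBij ((Curv2.bcCplFst A f).stalkMap q).hom := by
  set x := (Curv2.bcCplFst A f).base q with hx
  obtain ⟨U, hU, hxU, -⟩ := exists_isAffineOpen_mem_and_subset (show x ∈ (⊤ : X.Opens) from trivial)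
  let B := Γ(X, U)
  obtain ⟨χ, hχ⟩ := Spec.map_surjective (hU.fromSpec ≫ f)
  letI : Algebra A B := χ.hom.toAlgebra
  have hfU : hU.fromSpec ≫ f = Spec.map (CommRingCat.ofHom (algebraMap A B)) := by rw [← hχ]; rfl
  let gA : Spec (CommRingCat.of (Curv2.cpl A)) ⟶ Spec (CommRingCat.of A) :=
    Spec.map (CommRingCat.ofHom (algebraMap A (Curv2.cpl A)))
  let T : pullback (Spec.map (CommRingCat.ofHom (algebraMap A B))) gA ⟶ Curv2.bcCpl A f :=
    pullback.map _ _ f gA hU.fromSpec (𝟙 _) (𝟙 _) (by rw [Category.comp_id]; exact hfU.symm) (by simp [gA])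
  haveI : IsOpenImmersion T := inferInstance
  obtain ⟨k, hkdef⟩ : ∃ k : Spec (CommRingCat.of (B ⊗[A] Curv2.cpl A)) ⟶ Curv2.bcCpl A f,
      k = (pullbackSpecIso A B (Curv2.cpl A)).inv ≫ T := ⟨_, rfl⟩
  haveI : IsOpenImmersion k := by rw [hkdef]; infer_instance
  have hk : k ≫ Curv2.bcCplFst A f =
      Spec.map (CommRingCat.ofHom (algebraMap B (B ⊗[A] Curv2.cpl A))) ≫ hU.fromSpec := by
    have hT : T ≫ Curv2.bcCplFst A f = pullback.fst _ _ ≫ hU.fromSpec := pullback.lift_fst _ _ _
    rw [hkdef, Category.assoc, hT]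
    exact pullbackSpecIso_inv_fst'_assoc A B (Curv2.cpl A) _
  obtain ⟨r, hr⟩ : q ∈ Set.range k := by
    have hqU : Curv2.bcCplFst A f q ∈ Set.range hU.fromSpec := by rw [hU.range_fromSpec]; exact hxU
    have hTrange : Set.range T = (Curv2.bcCplFst A f) ⁻¹' Set.range hU.fromSpec := by
      rw [Scheme.Pullback.range_map]
      simp [Curv2.bcCplFst, gA, hU.range_fromSpec]
    simp only [hkdef, Scheme.Hom.comp_base, TopCat.coe_comp]
    rw [Set.range_comp, Set.range_eq_univ.2 (show Function.Surjective ⇑(pullbackSpecIso A B (Curv2.cpl A)).inv from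
      (pullbackSpecIso A B (Curv2.cpl A)).inv.homeomorph.surjective), Set.image_univ, hTrange]
    exact hqU
  subst hr
  let φ := algebraMap B (B ⊗[A] Curv2.cpl A)
  let P : PrimeSpectrum (B ⊗[A] Curv2.cpl A) := r
  let p := P.asIdeal.comap φ
  have hJ : ∀ n, ((maximalIdeal A) ^ n).map (algebraMap A B) ≤ p ^ n := by
    intro n
    rw [Ideal.map_pow]
    refine pow_le_pow_left' (Ideal.map_le_iff_le_comap.2 ?_) n
    have hpt : (PrimeSpectrum.comap (algebraMap A B) (PrimeSpectrum.comap φ P)) = closedPoint A := by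
      have h1 : Curv2.bcCplFst A f (k r) = hU.fromSpec (PrimeSpectrum.comap φ P) := by
        rw [← Scheme.Hom.comp_apply, hk]; rfl
      have h2 := hq
      rw [hx, h1, ← Scheme.Hom.comp_apply, hfU] at h2
      exact h2
    exact (congrArg PrimeSpectrum.asIdeal hpt).ge
  have H := truncBij_localRingHom φ (fun n => ((maximalIdeal A) ^ n).map (algebraMap A B))
    (exists_sub_mem hm B) (mem_of_algebraMap_mem B) p P.asIdeal rfl hJ
  have H' : TruncBij ((Spec.map (CommRingCat.ofHom φ)).stalkMap r).hom := by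
    let i₁ := Spec.stalkIso (CommRingCat.of B) (PrimeSpectrum.comap φ P)
    let i₂ := Spec.stalkIso (CommRingCat.of (B ⊗[A] Curv2.cpl A)) P
    refine H.equiv_comp i₁.commRingCatIsoToRingEquiv.symm i₂.commRingCatIsoToRingEquiv.symm _ fun z => ?_
    apply i₂.commRingCatIsoToRingEquiv.injective
    rw [RingEquiv.apply_symm_apply]
    have hw := congr($((Scheme.arrowStalkMapSpecIso (CommRingCat.ofHom φ) P).hom.w) (i₁.inv z))
    refine (hw.symm.trans (congrArg (Localization.localRingHom p P.asIdeal φ rfl) ?_))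
    exact i₁.commRingCatIsoToRingEquiv.apply_symm_apply z
  -- move along the two open immersions
  have hpt : Curv2.bcCplFst A f (k r) = hU.fromSpec (Spec.map (CommRingCat.ofHom φ) r) := by
    rw [← Scheme.Hom.comp_apply, hk]; rfl
  let e₁ : (Spec (CommRingCat.of B)).presheaf.stalk (Spec.map (CommRingCat.ofHom φ) r) ≅
      X.presheaf.stalk (Curv2.bcCplFst A f (k r)) :=
    (asIso (hU.fromSpec.stalkMap _)).symm ≪≫ X.presheaf.stalkCongr (.of_eq hpt.symm)
  let e₂ := (asIso (k.stalkMap r)).symm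
  refine H'.equiv_comp e₁.commRingCatIsoToRingEquiv e₂.commRingCatIsoToRingEquiv _ fun z => ?_
  have hc := Scheme.Hom.stalkMap_congr_hom _ _ hk r
  rw [Scheme.Hom.stalkMap_comp, Scheme.Hom.stalkMap_comp] at hc
  have hcomm : e₁.hom ≫ (Curv2.bcCplFst A f).stalkMap (k r) =
      (Spec.map (CommRingCat.ofHom φ)).stalkMap r ≫ e₂.hom := by
    rw [← cancel_mono (k.stalkMap r)]
    simp only [e₂, Iso.symm_hom, asIso_inv, Category.assoc, IsIso.inv_hom_id, Category.comp_id]
    rw [hc]
    simp only [e₁, Iso.trans_hom, Iso.symm_hom, asIso_inv, Category.assoc]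
    simp [TopCat.Presheaf.stalkCongr]
  exact congr($hcomm z)

theorem bijective_quotientMap_of_truncBij {R S : Type u} [CommRing R] [IsLocalRing R] [CommRing S] [IsLocalRing S]
    {ψ : R →+* S} (h : TruncBij ψ) (n : ℕ) (hle : maximalIdeal R ^ n ≤ (maximalIdeal S ^ n).comap ψ) :
    Function.Bijective (Ideal.quotientMap (maximalIdeal S ^ n) ψ hle) := by
  constructor
  · rw [injective_iff_map_eq_zero]
    intro z hz
    obtain ⟨b, rfl⟩ := Ideal.Quotient.mk_surjective z
    rw [Ideal.quotientMap_mk, Ideal.Quotient.eq_zero_iff_mem] at hz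
    exact Ideal.Quotient.eq_zero_iff_mem.2 ((h.2 n).2 b hz)
  · intro z
    obtain ⟨c, rfl⟩ := Ideal.Quotient.mk_surjective z
    obtain ⟨b, hb⟩ := (h.2 n).1 c
    exact ⟨Ideal.Quotient.mk _ b, by rw [Ideal.quotientMap_mk]; exact (Ideal.Quotient.eq.2 hb).symm⟩

end Groth.Agent.H28Cpl

namespace Groth.Agent.H28Cpl

open CategoryTheory Limits AlgebraicGeometry TopologicalSpace IsLocalRing

theorem isNoetherianRing_cpl (A : Type u) [CommRing A] [IsLocalRing A] [IsNoetherianRing A] :
    IsNoetherianRing (Curv2.cpl A) :=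
  H05EGA4.isNoetherianRing_adicCompletion A _

theorem regular_iff_completion (A : Type u) [CommRing A] [IsLocalRing A] [IsNoetherianRing A] {X : Scheme.{u}}
    (f : X ⟶ Spec (CommRingCat.of A)) [LocallyOfFiniteType f] (y : ↥(Curv2.bcCpl A f))
    (hy : (Curv2.bcCplSnd A f).base y = closedPoint (Curv2.cpl A)) :
    IsRegularLocalRing ((Curv2.bcCpl A f).presheaf.stalk y) ↔
      IsRegularLocalRing (X.presheaf.stalk ((Curv2.bcCplFst A f).base y)) := by
  haveI := isNoetherianRing_cpl A
  haveI : Flat (Spec.map (CommRingCat.ofHom (algebraMap A (Curv2.cpl A)))) := by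
    rw [HasRingHomProperty.Spec_iff (P := @Flat)]
    exact RingHom.flat_algebraMap_iff.2 inferInstance
  haveI : Flat (Curv2.bcCplFst A f) := MorphismProperty.pullback_fst _ _ inferInstance
  haveI : LocallyOfFiniteType (Curv2.bcCplSnd A f) := MorphismProperty.pullback_snd _ _ inferInstance
  haveI : IsLocallyNoetherian (Curv2.bcCpl A f) := LocallyOfFiniteType.isLocallyNoetherian (Curv2.bcCplSnd A f)
  haveI : IsLocallyNoetherian X := LocallyOfFiniteType.isLocallyNoetherian f
  have hq : f.base ((Curv2.bcCplFst A f).base y) = closedPoint A := by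
    rw [← Scheme.Hom.comp_apply, show Curv2.bcCplFst A f ≫ f = Curv2.bcCplSnd A f ≫ _ from pullback.condition,
      Scheme.Hom.comp_apply, hy]
    haveI : IsLocalHom (algebraMap A (Curv2.cpl A)) := inferInstance
    exact PrimeSpectrum.ext (IsLocalRing.maximalIdeal_comap (algebraMap A (Curv2.cpl A)))
  have hT := truncBij_stalkMap (IsNoetherian.noetherian _) f y hq
  have hflat : ((Curv2.bcCplFst A f).stalkMap y).hom.Flat := Flat.stalkMap (Curv2.bcCplFst A f) y
  letI := ((Curv2.bcCplFst A f).stalkMap y).hom.toAlgebra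
  haveI : Module.Flat (X.presheaf.stalk ((Curv2.bcCplFst A f).base y)) ((Curv2.bcCpl A f).presheaf.stalk y) := hflat
  constructor
  · intro h
    haveI : IsLocalHom (algebraMap (X.presheaf.stalk ((Curv2.bcCplFst A f).base y)) ((Curv2.bcCpl A f).presheaf.stalk y)) :=
      inferInstanceAs (IsLocalHom ((Curv2.bcCplFst A f).stalkMap y).hom)
    exact H05EGA4.isRegularLocalRing_of_flat (B := (Curv2.bcCpl A f).presheaf.stalk y)
  · intro h
    exact H05EGA4.isRegularLocalRing_of_flat_of_map_eq (X.presheaf.stalk ((Curv2.bcCplFst A f).base y)) _ hT.1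

theorem regular_of_specializes {Y : Scheme.{u}} [IsLocallyNoetherian Y] {y z : Y} (h : y ⤳ z)
    (hz : IsRegularLocalRing (Y.presheaf.stalk z)) : IsRegularLocalRing (Y.presheaf.stalk y) := by
  obtain ⟨P, rfl⟩ : y ∈ Set.range (Y.fromSpecStalk z) := by rw [Scheme.range_fromSpecStalk]; exact h
  haveI := H05EGA4.isRegularRing_of_isRegularLocalRing (Y.presheaf.stalk z)
  haveI := IsRegularRing.isRegularLocalRing_localization (R := Y.presheaf.stalk z) (P : PrimeSpectrum _).asIdeal
  haveI : IsRegularLocalRing ((Spec (Y.presheaf.stalk z)).presheaf.stalk P) :=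
    IsRegularLocalRing.of_ringEquiv (Spec.stalkIso _ P).commRingCatIsoToRingEquiv.symm
  haveI : IsIso ((Y.fromSpecStalk z).stalkMap P) := H25Div.isIso_stalkMap_fromSpecStalk z P
  exact IsRegularLocalRing.of_ringEquiv (asIso ((Y.fromSpecStalk z).stalkMap P)).commRingCatIsoToRingEquiv.symm

theorem regular_iff_completion_of_proper (A : Type u) [CommRing A] [IsLocalRing A] [IsNoetherianRing A]
    {X : Scheme.{u}} (f : X ⟶ Spec (CommRingCat.of A)) [IsProper f] :
    (∀ x : X, IsRegularLocalRing (X.presheaf.stalk x)) ↔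
      ∀ y : ↥(Curv2.bcCpl A f), IsRegularLocalRing ((Curv2.bcCpl A f).presheaf.stalk y) := by
  haveI := isNoetherianRing_cpl A
  haveI : IsProper (Curv2.bcCplSnd A f) := MorphismProperty.pullback_snd _ _ inferInstance
  haveI : IsLocallyNoetherian (Curv2.bcCpl A f) := LocallyOfFiniteType.isLocallyNoetherian (Curv2.bcCplSnd A f)
  haveI : IsLocallyNoetherian X := LocallyOfFiniteType.isLocallyNoetherian f
  constructor
  · intro h y
    obtain ⟨z, hyz, hz⟩ := (Curv2.bcCplSnd A f).isClosedMap.specializingMap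
      (IsLocalRing.specializes_closedPoint ((Curv2.bcCplSnd A f).base y))
    exact regular_of_specializes hyz ((regular_iff_completion A f z hz).2 (h _))
  · intro h x
    obtain ⟨z, hxz, hz⟩ := f.isClosedMap.specializingMap (IsLocalRing.specializes_closedPoint (f.base x))
    refine regular_of_specializes hxz ?_
    obtain ⟨w, hw₁, hw₂⟩ := Scheme.Pullback.exists_preimage_pullback (f := f)
      (g := Spec.map (CommRingCat.ofHom (algebraMap A (Curv2.cpl A)))) z (closedPoint (Curv2.cpl A))
      (hz.trans (PrimeSpectrum.ext (IsLocalRing.maximalIdeal_comap (algebraMap A (Curv2.cpl A)))).symm)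
    subst hw₁
    exact (regular_iff_completion A f w hw₂).1 (h w)

end Groth.Agent.H28Cpl
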