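import Groth.Agent.H28Cpl.BcCpl
import Groth.Agent.H26Blow.Exists
import Groth.Agent.S1680
import Groth.Prelude.Def_FEt
import Mathlib

/-!
# Admissible blow-ups of the punctured spectrum descend from the completion
-/

set_option autoImplicit false
set_option backward.isDefEq.respectTransparency.types false

universe u

open CategoryTheory Limits AlgebraicGeometry TopologicalSpace IsLocalRing

namespace Groth.Agent.H28Cpl

open H26Blow

theorem mem_support_centre {A : Type u} [CommRing A] (I : Ideal A) (z : Spec (CommRingCat.of A)) :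
    z ∈ (centre I).support ↔ I ≤ (z : PrimeSpectrum A).asIdeal := by
  rw [Scheme.IdealSheafData.mem_support_iff_of_mem (U := ⟨⊤, isAffineOpen_top _⟩) trivial, ideal_centre_top,
    Scheme.mem_zeroLocus_iff]
  constructor
  · intro h r hr
    have := h _ (Ideal.mem_map_of_mem _ hr)
    rw [basicOpen_eq_of_affine] at this
    exact not_not.1 this
  · intro h s hs
    obtain ⟨r, hr, rfl⟩ := (Ideal.mem_map_iff_of_surjective _
      (ConcreteCategory.bijective_of_isIso (Scheme.ΓSpecIso (CommRingCat.of A)).inv).2).1 hs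
    rw [basicOpen_eq_of_affine]
    exact not_not.2 (h hr)

theorem admissibleBlowup_descends (A : Type u) [CommRing A] [IsLocalRing A] [IsNoetherianRing A]
    (Y : Scheme.{u}) (c : Y ⟶ Spec (CommRingCat.of (Curv2.cpl A)))
    (J : (Spec (CommRingCat.of (Curv2.cpl A))).IdealSheafData)
    (hJ : BlowUp.IsAdmissibleFor (FEt.puncturedSpec (Curv2.cpl A)) J) (hc : BlowUp.IsBlowUp c J) :
    ∃ (I : (Spec (CommRingCat.of A)).IdealSheafData) (X : Scheme.{u}) (b : X ⟶ Spec (CommRingCat.of A)),
      BlowUp.IsAdmissibleFor (FEt.puncturedSpec A) I ∧ BlowUp.IsBlowUp b I ∧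
      ∃ e : Y ≅ Curv2.bcCpl A b, e.hom ≫ Curv2.bcCplSnd A b = c := by
  haveI := isNoetherianRing_cpl A
  have hm : (maximalIdeal A).FG := IsNoetherian.noetherian _
  let Ah := Curv2.cpl A
  let γ := Scheme.ΓSpecIso (CommRingCat.of Ah)
  let J₀ : Ideal Ah := (J.ideal ⟨⊤, isAffineOpen_top _⟩).map γ.hom.hom
  have hJ₀ : centre J₀ = J := by
    refine Scheme.IdealSheafData.ext_of_isAffine ?_
    rw [ideal_centre_top]
    dsimp only [J₀, γ]
    erw [Ideal.map_map, ← CommRingCat.hom_comp, Iso.hom_inv_id, CommRingCat.hom_id, Ideal.map_id]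
  have hle : maximalIdeal Ah ≤ J₀.radical := by
    rw [Ideal.radical_eq_sInf]
    refine le_sInf fun Q ⟨hQJ, hQ⟩ => ?_
    have hsupp : (⟨Q, hQ⟩ : PrimeSpectrum Ah) ∈ (J.support : Set (Spec (CommRingCat.of Ah))) := by
      rw [← hJ₀]; exact (mem_support_centre J₀ _).2 hQJ
    have hnot : (⟨Q, hQ⟩ : PrimeSpectrum Ah) ∉ (FEt.puncturedSpec Ah : Set (Spec (CommRingCat.of Ah))) :=
      fun h => Set.disjoint_left.1 hJ.2 hsupp h
    have : (⟨Q, hQ⟩ : PrimeSpectrum Ah) = closedPoint Ah := not_not.1 hnot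
    exact (congrArg PrimeSpectrum.asIdeal this).ge
  obtain ⟨n, hn⟩ := Ideal.exists_pow_le_of_le_radical_of_fg hle (IsNoetherian.noetherian _)
  let I₀ : Ideal A := J₀.comap (algebraMap A Ah)
  have hmA : (maximalIdeal A).map (algebraMap A Ah) ≤ maximalIdeal Ah :=
    ((local_hom_TFAE (algebraMap A Ah)).out 0 2).1 (inferInstance : IsLocalHom (algebraMap A Ah))
  have hnI : maximalIdeal A ^ n ≤ I₀ := by
    rw [← Ideal.map_le_iff_le_comap, Ideal.map_pow]
    exact (pow_le_pow_left' hmA n).trans hn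
  have hIJ : I₀.map (algebraMap A Ah) = J₀ := by
    refine le_antisymm Ideal.map_comap_le fun z hz => ?_
    obtain ⟨a, ha⟩ := Ideal.Quotient.mk_surjective (AdicCompletion.evalₐ (maximalIdeal A) n z)
    have h1 : z - algebraMap A Ah a ∈ ((maximalIdeal A) ^ n).map (algebraMap A Ah) := by
      rw [← H24Val.ker_evalₐ hm, RingHom.mem_ker, map_sub, sub_eq_zero, ← ha]
      exact ((AdicCompletion.evalₐ (maximalIdeal A) n).commutes a).symm
    have h2 : z - algebraMap A Ah a ∈ I₀.map (algebraMap A Ah) := Ideal.map_mono hnI h1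
    have ha' : a ∈ I₀ := by
      show algebraMap A Ah a ∈ J₀
      have := sub_mem hz (Ideal.map_comap_le h2)
      simpa using this
    have := add_mem h2 (Ideal.mem_map_of_mem (algebraMap A Ah) ha')
    simpa using this
  obtain ⟨X, b, hb⟩ := H26Blow.exists_isBlowUp (centre I₀)
  refine ⟨centre I₀, X, b, ⟨fun U => ?_, ?_⟩, hb, ?_⟩
  · haveI : IsNoetherianRing Γ(Spec (CommRingCat.of A), U.1) := IsLocallyNoetherian.component_noetherian U
    exact IsNoetherian.noetherian _
  · rw [Set.disjoint_left]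
    intro z hz hzU
    refine hzU (PrimeSpectrum.ext ?_ : (z : PrimeSpectrum A) = closedPoint A)
    have hle' : maximalIdeal A ≤ (z : PrimeSpectrum A).asIdeal := fun r hr =>
      (z : PrimeSpectrum A).2.mem_of_pow_mem n ((hnI.trans ((mem_support_centre I₀ z).1 hz)) (Ideal.pow_mem_pow hr n))
    exact ((maximalIdeal.isMaximal A).eq_of_le (z : PrimeSpectrum A).2.ne_top hle').symm
  · let g : Spec (CommRingCat.of Ah) ⟶ Spec (CommRingCat.of A) := Spec.map (CommRingCat.ofHom (algebraMap A Ah))
    haveI : Flat g := by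
      rw [HasRingHomProperty.Spec_iff (P := @Flat)]
      exact RingHom.flat_algebraMap_iff.2 inferInstance
    have hcomap : (centre I₀).comap g = J := by
      rw [← hJ₀]
      refine Scheme.IdealSheafData.ext_of_isAffine ?_
      rw [ideal_centre_comap, CommRingCat.hom_ofHom, hIJ, ideal_centre_top]
    have hbc := Groth.Agent.S1680.result g (centre I₀) b hb
    rw [hcomap] at hbc
    obtain ⟨e, he⟩ := exists_iso_of_isBlowUp hc hbc
    exact ⟨e ≪≫ pullbackSymmetry _ _, by
      simp only [Iso.trans_hom, Category.assoc, Curv2.bcCplSnd]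
      rw [pullbackSymmetry_hom_comp_snd]; exact he⟩

end Groth.Agent.H28Cpl
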